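import Groth.Agent.Lib.CdOne.Poly
import Mathlib.Algebra.Module.Torsion.Basic

/-!
# The module version of the polynomial lift
-/

set_option autoImplicit false
universe u

open scoped BigOperators TensorProduct
open MvPolynomial

namespace GrothLib.CdOne

variable {B : Type u} [CommRing B] {N : Type u} [AddCommGroup N] [Module B N]

/-- A large power of an ideal meets its power torsion trivially. -/
theorem exists_pow_inf_torsion_eq_bot [IsNoetherianRing B] [Module.Finite B N] (J : Ideal B) :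
    ∃ n₀ : ℕ, ∀ x ∈ J ^ n₀ • (⊤ : Submodule B N), ∀ m : ℕ, (∀ a ∈ J ^ m, a • x = 0) → x = 0 := by
  classical
  let T : ℕ →o Submodule B N :=
    ⟨fun m => Submodule.torsionBySet B N (J ^ m : Ideal B),
      fun a b hab x hx => (Submodule.mem_torsionBySet_iff _ _).2 fun s =>
        (Submodule.mem_torsionBySet_iff _ _).1 hx ⟨s.1, Ideal.pow_le_pow_right hab s.2⟩⟩
  obtain ⟨m₀, hm₀⟩ := monotone_stabilizes_iff_noetherian.2 (inferInstance : IsNoetherian B N) T
  obtain ⟨k, hk⟩ := J.exists_pow_inf_eq_pow_smul (T m₀)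
  refine ⟨m₀ + k, fun x hx m hm => ?_⟩
  have hxT : x ∈ T m₀ := by
    have hxm : x ∈ T (max m₀ m) :=
      T.mono (le_max_right m₀ m) ((Submodule.mem_torsionBySet_iff _ _).2 fun s => hm s.1 s.2)
    rwa [← hm₀ (max m₀ m) (le_max_left m₀ m)] at hxm
  have h2 : x ∈ J ^ (m₀ + k - k) • (J ^ k • (⊤ : Submodule B N) ⊓ T m₀) :=
    (hk (m₀ + k) (Nat.le_add_left k m₀)) ▸ (⟨hx, hxT⟩ : x ∈ J ^ (m₀ + k) • (⊤ : Submodule B N) ⊓ T m₀)
  rw [Nat.add_sub_cancel] at h2
  refine Submodule.smul_induction_on h2 (fun a ha y hy => ?_) fun y z hy hz => by rw [hy, hz, add_zero]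
  exact (Submodule.mem_torsionBySet_iff _ _).1 hy.2 ⟨a, ha⟩

/-- The component of an element of `B[T] ⊗ N` at a monomial. -/
noncomputable def comp {r : ℕ} (d : Fin r →₀ ℕ) : MvPolynomial (Fin r) B ⊗[B] N →ₗ[B] N :=
  TensorProduct.lid B N ∘ₗ (MvPolynomial.lcoeff B d).rTensor N

theorem comp_tmul {r : ℕ} (d : Fin r →₀ ℕ) (p : MvPolynomial (Fin r) B) (x : N) :
    comp d (p ⊗ₜ[B] x) = coeff d p • x := rfl

theorem eq_zero_of_comp {r : ℕ} {z : MvPolynomial (Fin r) B ⊗[B] N} (h : ∀ d, comp d z = 0) : z = 0 := by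
  classical
  let e := (TensorProduct.congr (MvPolynomial.basisMonomials (Fin r) B).repr (LinearEquiv.refl B N)).trans
    (TensorProduct.finsuppScalarLeft B N (Fin r →₀ ℕ))
  apply e.injective
  rw [map_zero]
  ext d
  have key : ∀ w, e w d = comp d w := fun w => by
    induction w using TensorProduct.induction_on with
    | zero => simp
    | tmul p x =>
      show TensorProduct.finsuppScalarLeft B N _ ((MvPolynomial.basisMonomials (Fin r) B).repr p ⊗ₜ[B] x) d = _
      rw [TensorProduct.finsuppScalarLeft_apply_tmul_apply, comp_tmul]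
      rfl
    | add a b ha hb => simp [ha, hb]
  rw [key, h]
  rfl

variable {A : Type u} [CommRing A] [Algebra A B] {r : ℕ} {I : Ideal A}

theorem exists_moduleLift [IsNoetherianRing B] [Module.Finite B N] (c : ℕ)
    (φ : Fin r → (↥(I ^ c) →ₗ[A] A)) (f : Fin r → A)
    (hφ : ∀ x : ↥(I ^ c), (x : A) = ∑ j, f j * φ j x) :
    ∃ c' : ℕ, ∃ hcc' : c ≤ c', ∀ Φ : ℕ → A → MvPolynomial (Fin r) A,
      (∀ n : ℕ, ∀ g ∈ I ^ (n * c'), ∀ h ∈ I ^ (n * c'), Φ n (g + h) = Φ n g + Φ n h) →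
      (∀ (n : ℕ) (a : A), ∀ g ∈ I ^ (n * c'), Φ n (a * g) = a • Φ n g) →
      (∀ n m : ℕ, ∀ g ∈ I ^ (n * c'), ∀ h ∈ I ^ (m * c'), Φ (n + m) (g * h) = Φ n g * Φ m h) →
      (∀ a : A, Φ 0 a = C a) →
      (∀ (g : A) (hg : g ∈ I ^ c'), Φ 1 g = ∑ j, C (φ j ⟨g, Ideal.pow_le_pow_right hcc' hg⟩) * X j) →
      ∀ n : ℕ, ∃ Ψ : ↥(Submodule.span B {y : N | ∃ g ∈ I ^ (n * c'), ∃ x : N, y = algebraMap A B g • x}) →ₗ[B]
          (MvPolynomial (Fin r) B ⊗[B] N),
        (∀ (g : A) (hg : g ∈ I ^ (n * c')) (x : N),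
          Ψ ⟨algebraMap A B g • x, Submodule.subset_span ⟨g, hg, x, rfl⟩⟩ =
            MvPolynomial.map (algebraMap A B) (Φ n g) ⊗ₜ[B] x) ∧
        (∀ y, TensorProduct.lift ((LinearMap.lsmul B N).comp
          (MvPolynomial.aeval (fun j ↦ algebraMap A B (f j))).toLinearMap) (Ψ y) = (y : N)) ∧
        (∀ Ψ' : ↥(Submodule.span B {y : N | ∃ g ∈ I ^ (n * c'), ∃ x : N, y = algebraMap A B g • x}) →ₗ[B]
            (MvPolynomial (Fin r) B ⊗[B] N),
          (∀ (g : A) (hg : g ∈ I ^ (n * c')) (x : N),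
            Ψ' ⟨algebraMap A B g • x, Submodule.subset_span ⟨g, hg, x, rfl⟩⟩ =
              MvPolynomial.map (algebraMap A B) (Φ n g) ⊗ₜ[B] x) → Ψ' = Ψ) := by
  classical
  let J := I.map (algebraMap A B)
  obtain ⟨n₀, hn₀⟩ := exists_pow_inf_torsion_eq_bot (N := N) J
  have hcc' : c ≤ n₀ + c := Nat.le_add_left c n₀
  refine ⟨n₀ + c, hcc', fun Φ hadd hlin hmul h0 h1 n => ?_⟩
  have hcoef : ∀ n, 1 ≤ n → ∀ g ∈ I ^ (n * (n₀ + c)), Φ n g ∈ (I ^ n₀).map (C : A →+* MvPolynomial (Fin r) A) := by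
    intro n hn g hg
    refine induction_on hadd hmul (P := fun n _ p => 1 ≤ n → p ∈ (I ^ n₀).map C)
      (fun a h => absurd h (by omega)) ?_ (fun n g h p q hp hq hn => add_mem (hp hn) (hq hn)) n g hg hn
    intro n g h hg hh _ _
    refine Ideal.mul_mem_left _ _ ?_
    rw [h1 h hh]
    exact Ideal.sum_mem _ fun j _ => Ideal.mul_mem_right _ _
      (Ideal.mem_map_of_mem _ (apply_mem φ j (by rwa [← pow_add]) _))
  have haev : ∀ n, ∀ g ∈ I ^ (n * (n₀ + c)), aeval f (Φ n g) = g := by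
    refine fun n => induction_on hadd hmul (P := fun _ g p => aeval f p = g)
      (fun a => by rw [h0, aeval_C, Algebra.algebraMap_self_apply]) ?_
      (fun n g h p q hp hq => by rw [map_add, hp, hq]) n
    intro n g h hg hh hgp
    rw [map_mul, hgp, h1 h hh, map_sum]
    congr 1
    refine Eq.trans ?_ (hφ ⟨h, Ideal.pow_le_pow_right hcc' hh⟩).symm
    exact Finset.sum_congr rfl fun j _ => by rw [map_mul, aeval_C, aeval_X, Algebra.algebraMap_self_apply, mul_comm]
  let S : Set N := {y : N | ∃ g ∈ I ^ (n * (n₀ + c)), ∃ x : N, y = algebraMap A B g • x}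
  let G : Set (N × (MvPolynomial (Fin r) B ⊗[B] N)) :=
    {z | ∃ g ∈ I ^ (n * (n₀ + c)), ∃ x : N,
      z = (algebraMap A B g • x, MvPolynomial.map (algebraMap A B) (Φ n g) ⊗ₜ[B] x)}
  let W := Submodule.span B G
  have hkey : ∀ h ∈ I ^ (n * (n₀ + c)), ∀ z ∈ W,
      algebraMap A B h • z.2 = MvPolynomial.map (algebraMap A B) (Φ n h) ⊗ₜ[B] z.1 := by
    intro h hh z hz
    induction hz using Submodule.span_induction with
    | mem w hw =>
      obtain ⟨g, hg, x, rfl⟩ := hw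
      have hgh : h • Φ n g = g • Φ n h := by rw [← hlin n h g hg, ← hlin n g h hh, mul_comm]
      show algebraMap A B h • (MvPolynomial.map (algebraMap A B) (Φ n g) ⊗ₜ[B] x) = _ ⊗ₜ[B] (algebraMap A B g • x)
      rw [TensorProduct.smul_tmul', TensorProduct.tmul_smul, TensorProduct.smul_tmul']
      refine congrArg (· ⊗ₜ[B] x) ?_
      have := congrArg (MvPolynomial.map (algebraMap A B)) hgh
      rw [smul_eq_C_mul, smul_eq_C_mul, map_mul, map_mul, map_C, map_C] at this
      rw [smul_eq_C_mul, smul_eq_C_mul, this]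
    | zero => simp
    | add a b _ _ ha hb => simp [ha, hb, TensorProduct.tmul_add]
    | smul b a _ ha =>
      show algebraMap A B h • b • a.2 = _ ⊗ₜ[B] (b • a.1)
      rw [smul_comm, ha, TensorProduct.tmul_smul]
  have hW0 : ∀ z ∈ W, z.1 = 0 → z.2 = 0 := by
    intro z hz hz1
    rcases Nat.eq_zero_or_pos n with hn | hn
    · have := hkey 1 (by subst hn; simp) z hz
      rwa [map_one, one_smul, hz1, TensorProduct.tmul_zero] at this
    refine eq_zero_of_comp fun d => hn₀ _ ?_ (n * (n₀ + c)) fun a ha => ?_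
    · clear hz1
      induction hz using Submodule.span_induction with
      | mem w hw =>
        obtain ⟨g, hg, x, rfl⟩ := hw
        rw [comp_tmul, coeff_map]
        refine Submodule.smul_mem_smul ?_ Submodule.mem_top
        rw [← Ideal.map_pow]
        exact Ideal.mem_map_of_mem _ (mem_map_C_iff.1 (hcoef n hn g hg) d)
      | zero => simp
      | add a b _ _ ha hb =>
        rw [Prod.snd_add, map_add]
        exact add_mem ha hb
      | smul b a _ ha =>
        rw [Prod.smul_snd, map_smul]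
        exact Submodule.smul_mem _ _ ha
    · rw [← Ideal.map_pow] at ha
      induction ha using Submodule.span_induction with
      | mem b hb =>
        obtain ⟨h, hh, rfl⟩ := hb
        rw [← map_smul, hkey h hh z hz, hz1, TensorProduct.tmul_zero, map_zero]
      | zero => simp
      | add a b _ _ ha hb => rw [add_smul, ha, hb, add_zero]
      | smul b a _ ha => rw [smul_assoc, ha, smul_zero]
  have hfst : W.map (LinearMap.fst B N _) = Submodule.span B S := by
    rw [Submodule.map_span]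
    refine congrArg _ (Set.ext fun y => ⟨?_, ?_⟩)
    · rintro ⟨_, ⟨g, hg, x, rfl⟩, rfl⟩
      exact ⟨g, hg, x, rfl⟩
    · rintro ⟨g, hg, x, rfl⟩
      exact ⟨_, ⟨g, hg, x, rfl⟩, rfl⟩
  let p : W →ₗ[B] Submodule.span B S :=
    LinearMap.codRestrict _ (LinearMap.fst B N _ ∘ₗ W.subtype) fun z => hfst.le ⟨z.1, z.2, rfl⟩
  have hp : Function.Bijective p := by
    refine ⟨fun z w hzw => sub_eq_zero.1 ?_, fun y => ?_⟩
    · have h1 : (z - w).1.1 = 0 := sub_eq_zero.2 (congrArg Subtype.val hzw)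
      exact Subtype.ext (Prod.ext h1 (hW0 (z - w).1 (z - w).2 h1))
    · obtain ⟨z, hz, hzy⟩ := hfst.ge y.2
      exact ⟨⟨z, hz⟩, Subtype.ext hzy⟩
  let Ψ : Submodule.span B S →ₗ[B] MvPolynomial (Fin r) B ⊗[B] N :=
    (LinearMap.snd B N _ ∘ₗ W.subtype) ∘ₗ (LinearEquiv.ofBijective p hp).symm.toLinearMap
  have hΨ : ∀ (g : A) (hg : g ∈ I ^ (n * (n₀ + c))) (x : N),
      Ψ ⟨algebraMap A B g • x, Submodule.subset_span ⟨g, hg, x, rfl⟩⟩ =
        MvPolynomial.map (algebraMap A B) (Φ n g) ⊗ₜ[B] x := fun g hg x => by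
    let w : W := ⟨(algebraMap A B g • x, MvPolynomial.map (algebraMap A B) (Φ n g) ⊗ₜ[B] x),
      Submodule.subset_span ⟨g, hg, x, rfl⟩⟩
    exact congrArg (fun w : W => w.1.2) ((LinearEquiv.ofBijective p hp).symm_apply_apply w)
  refine ⟨Ψ, hΨ, fun y => ?_, fun Ψ' hΨ' => ?_⟩
  · refine LinearMap.congr_fun (f := TensorProduct.lift ((LinearMap.lsmul B N).comp
      (MvPolynomial.aeval (fun j ↦ algebraMap A B (f j))).toLinearMap) ∘ₗ Ψ)
      (g := (Submodule.span B S).subtype) ?_ y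
    refine LinearMap.ext_on (Submodule.span_span_coe_preimage (R := B) (s := S)) ?_
    rintro ⟨_, hy⟩ ⟨g, hg, x, rfl⟩
    rw [LinearMap.comp_apply, hΨ g hg x, TensorProduct.lift.tmul]
    show aeval (fun j ↦ algebraMap A B (f j)) (MvPolynomial.map (algebraMap A B) (Φ n g)) • x = algebraMap A B g • x
    have he : aeval (fun j ↦ algebraMap A B (f j)) (MvPolynomial.map (algebraMap A B) (Φ n g)) =
        algebraMap A B (aeval f (Φ n g)) := by
      rw [map_aeval, aeval_def, eval₂_map]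
      rfl
    rw [he, haev n g hg]
  · refine LinearMap.ext_on (Submodule.span_span_coe_preimage (R := B) (s := S)) ?_
    rintro ⟨_, hy⟩ ⟨g, hg, x, rfl⟩
    exact (hΨ' g hg x).trans (hΨ g hg x).symm

end GrothLib.CdOne
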