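import Mathlib.RingTheory.MvPolynomial.Homogeneous
import Mathlib.RingTheory.MvPolynomial.Basic
import Mathlib.RingTheory.Filtration
import Mathlib.LinearAlgebra.DirectSum.Finsupp

/-!
# The polynomial lift attached to a splitting `x = Σ f_j φ_j(x)` on a power of an ideal
-/

set_option autoImplicit false
universe u

open scoped BigOperators TensorProduct
open MvPolynomial

namespace GrothLib.CdOne

variable {A : Type u} [CommRing A] {r : ℕ} {I : Ideal A} {c : ℕ}
  (φ : Fin r → (↥(I ^ c) →ₗ[A] A))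

open Classical in
/-- The degree `n` part of the lift. -/
noncomputable def lift : ℕ → A → MvPolynomial (Fin r) A
  | 0, a => C a
  | n + 1, a => if h : a ∈ I ^ c then ∑ j, lift n (φ j ⟨a, h⟩) * X j else 0

theorem pow_le {n k c : ℕ} : I ^ ((n + k) * c) ≤ I ^ (n * c) :=
  Ideal.pow_le_pow_right (Nat.mul_le_mul_right _ (Nat.le_add_right n k))

theorem succ_le {n c : ℕ} : I ^ ((n + 1) * c) ≤ I ^ c := by
  refine Ideal.pow_le_pow_right ?_
  rw [Nat.add_one_mul]
  exact Nat.le_add_left c (n * c)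

theorem lift_succ {n : ℕ} {a : A} (h : a ∈ I ^ c) :
    lift φ (n + 1) a = ∑ j, lift φ n (φ j ⟨a, h⟩) * X j := by
  rw [lift, dif_pos h]

theorem apply_mem {k : ℕ} (j : Fin r) : ∀ {a : A}, a ∈ I ^ k * I ^ c → ∀ h : a ∈ I ^ c,
    φ j ⟨a, h⟩ ∈ I ^ k := by
  intro a ha
  induction ha using Submodule.mul_induction_on' with
  | mem_mul_mem g hg y hy =>
    intro h
    rw [show (⟨g * y, h⟩ : ↥(I ^ c)) = g • ⟨y, hy⟩ from rfl, map_smul, smul_eq_mul]
    exact Ideal.mul_mem_right _ _ hg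
  | add x hx y hy ihx ihy =>
    intro h
    have hx' : x ∈ I ^ c := Ideal.mul_le_right (I := I ^ k) (J := I ^ c) hx
    have hy' : y ∈ I ^ c := Ideal.mul_le_right (I := I ^ k) (J := I ^ c) hy
    rw [show (⟨x + y, h⟩ : ↥(I ^ c)) = ⟨x, hx'⟩ + ⟨y, hy'⟩ from rfl, map_add]
    exact add_mem (ihx hx') (ihy hy')

theorem apply_mem' {n : ℕ} (j : Fin r) {a : A} (ha : a ∈ I ^ ((n + 1) * c)) :
    φ j ⟨a, succ_le ha⟩ ∈ I ^ (n * c) :=
  apply_mem φ j (by rwa [← pow_add, ← Nat.add_one_mul]) _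

theorem lift_linear (n : ℕ) : (∀ g ∈ I ^ (n * c), ∀ h ∈ I ^ (n * c), lift φ n (g + h) = lift φ n g + lift φ n h) ∧
    (∀ (a : A), ∀ g ∈ I ^ (n * c), lift φ n (a * g) = a • lift φ n g) := by
  induction n with
  | zero => exact ⟨fun g _ h _ => C_add, fun a g _ => by rw [lift, lift, C_mul, smul_eq_C_mul]⟩
  | succ n ih =>
    constructor
    · intro g hg h hh
      rw [lift_succ φ (succ_le hg), lift_succ φ (succ_le hh), lift_succ φ (succ_le (add_mem hg hh)),
        ← Finset.sum_add_distrib]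
      refine Finset.sum_congr rfl fun j _ => ?_
      rw [show (⟨g + h, succ_le (add_mem hg hh)⟩ : ↥(I ^ c)) = ⟨g, succ_le hg⟩ + ⟨h, succ_le hh⟩ from rfl,
        map_add, ih.1 _ (apply_mem' φ j hg) _ (apply_mem' φ j hh), add_mul]
    · intro a g hg
      rw [lift_succ φ (succ_le hg), lift_succ φ (succ_le (Ideal.mul_mem_left _ a hg)), Finset.smul_sum]
      refine Finset.sum_congr rfl fun j _ => ?_
      rw [show (⟨a * g, succ_le (Ideal.mul_mem_left _ a hg)⟩ : ↥(I ^ c)) = a • ⟨g, succ_le hg⟩ from rfl,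
        map_smul, smul_eq_mul, ih.2 a _ (apply_mem' φ j hg), smul_mul_assoc]

theorem lift_homogeneous (n : ℕ) : ∀ g ∈ I ^ (n * c), (lift φ n g).IsHomogeneous n := by
  induction n with
  | zero => exact fun g _ => isHomogeneous_C _ _
  | succ n ih =>
    intro g hg
    rw [lift_succ φ (succ_le hg)]
    exact IsHomogeneous.sum _ _ _ fun j _ => (ih _ (apply_mem' φ j hg)).mul (isHomogeneous_X A j)

theorem lift_mul (n m : ℕ) : ∀ g ∈ I ^ (n * c), ∀ h ∈ I ^ (m * c),
    lift φ (n + m) (g * h) = lift φ n g * lift φ m h := by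
  induction m with
  | zero =>
    intro g hg h _
    rw [add_zero, mul_comm g h, (lift_linear φ n).2 h g hg, lift, smul_eq_C_mul, mul_comm]
  | succ m ih =>
    intro g hg h hh
    rw [← add_assoc, lift_succ φ (succ_le hh), lift_succ φ (Ideal.mul_mem_left _ g (succ_le hh)),
      Finset.mul_sum]
    refine Finset.sum_congr rfl fun j _ => ?_
    rw [show (⟨g * h, Ideal.mul_mem_left _ g (succ_le hh)⟩ : ↥(I ^ c)) = g • ⟨h, succ_le hh⟩ from rfl,
      map_smul, smul_eq_mul, ih g hg _ (apply_mem' φ j hh), mul_assoc]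

theorem aeval_lift (f : Fin r → A) (hφ : ∀ x : ↥(I ^ c), (x : A) = ∑ j, f j * φ j x) (n : ℕ) :
    ∀ g ∈ I ^ (n * c), aeval f (lift φ n g) = g := by
  induction n with
  | zero => exact fun g _ => by rw [lift, aeval_C, Algebra.algebraMap_self_apply]
  | succ n ih =>
    intro g hg
    rw [lift_succ φ (succ_le hg), map_sum]
    refine Eq.trans ?_ (hφ ⟨g, succ_le hg⟩).symm
    refine Finset.sum_congr rfl fun j _ => ?_
    rw [map_mul, aeval_X, ih _ (apply_mem' φ j hg), mul_comm]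

/-! ## Properties of any such lift -/

section

variable {Φ : ℕ → A → MvPolynomial (Fin r) A}
  (hadd : ∀ n : ℕ, ∀ g ∈ I ^ (n * c), ∀ h ∈ I ^ (n * c), Φ n (g + h) = Φ n g + Φ n h)
  (hmul : ∀ n m : ℕ, ∀ g ∈ I ^ (n * c), ∀ h ∈ I ^ (m * c), Φ (n + m) (g * h) = Φ n g * Φ m h)

include hadd hmul in
theorem induction_on {P : ℕ → A → MvPolynomial (Fin r) A → Prop} (h0 : ∀ a, P 0 a (Φ 0 a))
    (hP : ∀ n g h, g ∈ I ^ (n * c) → h ∈ I ^ c → P n g (Φ n g) → P (n + 1) (g * h) (Φ n g * Φ 1 h))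
    (hPadd : ∀ n g h p q, P n g p → P n h q → P n (g + h) (p + q)) (n : ℕ) :
    ∀ g ∈ I ^ (n * c), P n g (Φ n g) := by
  induction n with
  | zero => exact fun g _ => h0 g
  | succ n ih =>
    intro g hg
    rw [Nat.add_one_mul, pow_add] at hg
    induction hg using Submodule.mul_induction_on' with
    | mem_mul_mem g hg h hh =>
      rw [hmul n 1 g hg h (by rwa [one_mul])]
      exact hP n g h hg hh (ih g hg)
    | add x hx y hy ihx ihy =>
      rw [hadd (n + 1) x (by rwa [Nat.add_one_mul, pow_add]) y (by rwa [Nat.add_one_mul, pow_add])]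
      exact hPadd _ _ _ _ _ ihx ihy

include hadd hmul in
theorem eq_lift (h0 : ∀ a, Φ 0 a = C a)
    (h1 : ∀ (g : A) (hg : g ∈ I ^ c), Φ 1 g = ∑ j, C (φ j ⟨g, hg⟩) * X j) (n : ℕ) :
    ∀ g ∈ I ^ (n * c), Φ n g = lift φ n g := fun g hg => by
  refine (induction_on hadd hmul (P := fun n g p => g ∈ I ^ (n * c) ∧ p = lift φ n g)
    (fun a => ⟨by simp, by rw [h0 a, lift]⟩) ?_ ?_ n g hg).2
  · rintro n g h hg hh ⟨-, he⟩
    refine ⟨by rw [Nat.add_one_mul, pow_add]; exact Ideal.mul_mem_mul hg hh, ?_⟩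
    rw [lift_mul φ n 1 g hg h (by rwa [one_mul]), he, h1 h hh, lift_succ φ hh]
    rfl
  · rintro n g h p q ⟨hg, rfl⟩ ⟨hh, rfl⟩
    exact ⟨add_mem hg hh, ((lift_linear φ n).1 g hg h hh).symm⟩

end

end GrothLib.CdOne
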