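import Groth.Agent.Lib.CdOne.ModuleLift
import Groth.Agent.Lib.Punctured.LocalCohom
import Groth.Agent.S11677

/-!
# Splittings on a power of an ideal of cohomological dimension one
-/

set_option autoImplicit false
universe u

open CategoryTheory CategoryTheory.Limits Opposite AlgebraicGeometry TopologicalSpace

namespace GrothLib.Punctured

variable {A : Type u} [CommRing A] [IsNoetherianRing A] (I : Ideal A)

theorem secMap_g_surjective {S : ShortComplex (ModuleCat.{u} (CommRingCat.of A))} (hS : S.ShortExact)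
    (h : Subsingleton ((localCohomology (R := CommRingCat.of A) I 2).obj S.X₁)) :
    Function.Surjective (secMap I S.g) := by
  obtain ⟨e⟩ := nonempty_HH_equiv I 0 S.X₁
  have : Subsingleton (Coh.HH (↑(LocCoh.puncturedOpen A I) : Scheme.{u}) ((puncFun I).obj S.X₁) 1) :=
    e.toEquiv.subsingleton
  intro y
  obtain ⟨x, hx⟩ := (Cohom.exact₃ (A := A) (puncFun_shortExact I S hS) 0 ((H0Sec I S.X₃).symm y)).1
    (@Subsingleton.elim _ this _ _)
  exact ⟨H0Sec I S.X₂ x, ((H0Sec_map I S.g x).symm.trans (congrArg (H0Sec I S.X₃) hx)).trans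
    ((H0Sec I S.X₃).apply_symm_apply y)⟩

theorem eq_zero_of_forall_pow (M : ModuleCat.{u} (CommRingCat.of A)) (s : sec I M) (n : ℕ)
    (h : ∀ a ∈ I ^ n, (a : CommRingCat.of A) • s = 0) : s = 0 := by
  have : IsNoetherianRing (CommRingCat.of A) := inferInstanceAs (IsNoetherianRing A)
  exact eq_zero_of_forall_smul (R := CommRingCat.of A) M I (U := LocCoh.puncturedOpen A I)
    (fun p hp => hp) s n h

theorem exists_pow_smul_mem_range (M : ModuleCat.{u} (CommRingCat.of A)) (s : sec I M) :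
    ∃ n : ℕ, ∀ a ∈ I ^ n, ∃ m : M, tilde.toOpen M (LocCoh.puncturedOpen A I) m = (a : CommRingCat.of A) • s := by
  obtain ⟨-, -, h⟩ := Groth.Agent.S11677.result A I M
  obtain ⟨n, hn⟩ := h (Submodule.Quotient.mk s)
  exact ⟨n, fun a ha => (Submodule.Quotient.mk_eq_zero _).1
    ((Submodule.Quotient.mk_smul _ a s).trans (hn a ha))⟩

theorem sec_eq_zero_of_isPowerTorsion (M : ModuleCat.{u} (CommRingCat.of A))
    (hM : LocCoh.IsPowerTorsion (R := CommRingCat.of A) I M) (s : sec I M) : s = 0 := by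
  obtain ⟨n, hn⟩ := exists_pow_smul_mem_range I M s
  refine eq_zero_of_forall_pow I M s n fun a ha => ?_
  obtain ⟨m, hm⟩ := hn a ha
  rw [← hm]
  exact (toOpen_eq_zero_iff I M m).2 (hM m)

theorem toOpen_injOn (M : ModuleCat.{u} (CommRingCat.of A)) {k : ℕ}
    (hk : ∀ x ∈ (I : Ideal (CommRingCat.of A)) ^ k • (⊤ : Submodule (CommRingCat.of A) M), ∀ m : ℕ,
      (∀ a ∈ (I : Ideal (CommRingCat.of A)) ^ m, a • x = 0) → x = 0) :
    Function.Injective ((tilde.toOpen M (LocCoh.puncturedOpen A I)).hom.comp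
      ((I : Ideal (CommRingCat.of A)) ^ k • (⊤ : Submodule (CommRingCat.of A) M)).subtype) := by
  refine LinearMap.ker_eq_bot.1 (LinearMap.ker_eq_bot'.2 fun x hx => Subtype.ext ?_)
  obtain ⟨m, hm⟩ := (toOpen_eq_zero_iff I M x.1).1 hx
  exact hk x.1 x.2 m hm

theorem exists_splitting {r : ℕ} (f : Fin r → CommRingCat.of A) (I : Ideal (CommRingCat.of A))
    (hI : I = Ideal.span (Set.range f))
    (h₁ : ∀ M : ModuleCat.{u} (CommRingCat.of A),
      Subsingleton ((localCohomology (R := CommRingCat.of A) I 2).obj M)) :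
    ∃ (c : ℕ) (φ : Fin r → (↥(I ^ (c + 1)) →ₗ[CommRingCat.of A] CommRingCat.of A)),
      ∀ x : ↥(I ^ (c + 1)), (x : CommRingCat.of A) = ∑ j, f j * φ j x := by
  classical
  have : IsNoetherianRing (CommRingCat.of A) := inferInstanceAs (IsNoetherianRing A)
  let R := CommRingCat.of A
  let MA : ModuleCat.{u} R := ModuleCat.of R R
  let MF : ModuleCat.{u} R := ModuleCat.of R (Fin r → R)
  let U : (Spec R).Opens := LocCoh.puncturedOpen A I
  let l : (Fin r → R) →ₗ[R] R := Fintype.linearCombination R f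
  have hl : ∀ v, l v = ∑ j, v j * f j := fun v => rfl
  have hrange : LinearMap.range l = I := (Fintype.range_linearCombination R f).trans hI.symm
  let l' : (Fin r → R) →ₗ[R] I := LinearMap.codRestrict I l fun v => hrange.le ⟨v, rfl⟩
  have hl' : Function.Surjective l' := fun y => by
    obtain ⟨v, hv⟩ := hrange.ge y.2
    exact ⟨v, Subtype.ext hv⟩
  let S₁ : ShortComplex (ModuleCat.{u} R) := ShortComplex.mk (ModuleCat.ofHom (LinearMap.ker l').subtype)
    (ModuleCat.ofHom l') (ModuleCat.hom_ext (LinearMap.ext fun x => x.2))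
  have hS₁ : S₁.ShortExact :=
    { exact := (ShortComplex.moduleCat_exact_iff _).2 fun x hx => ⟨⟨x, hx⟩, rfl⟩
      mono_f := (ModuleCat.mono_iff_injective _).2 (LinearMap.ker l').injective_subtype
      epi_g := (ModuleCat.epi_iff_surjective _).2 hl' }
  let S₂ := LC.subQuot (M := MA) I
  have hS₂ : S₂.ShortExact := LC.subQuot_shortExact (M := MA) I
  have ht : LocCoh.IsPowerTorsion (R := R) I S₂.X₃ := fun q => by
    obtain ⟨x, rfl⟩ := Submodule.mkQ_surjective _ q
    refine ⟨1, fun a ha => ?_⟩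
    rw [pow_one] at ha
    exact ((map_smul (Submodule.mkQ I) a x).symm).trans
      ((Submodule.Quotient.mk_eq_zero _).2 (Ideal.mul_mem_right x I ha))
  obtain ⟨g₁, hg₁⟩ := exists_secMap_f_eq I hS₂ (y := tilde.toOpen MA U (1 : R))
    (sec_eq_zero_of_isPowerTorsion I _ ht _)
  obtain ⟨g, hg⟩ := secMap_g_surjective I hS₁ (h₁ _) g₁
  obtain ⟨m, hm⟩ := exists_pow_smul_mem_range I MF g
  obtain ⟨k₁, hk₁⟩ := CdOne.exists_pow_inf_torsion_eq_bot (B := R) (N := Fin r → R) I
  obtain ⟨k₂, hk₂⟩ := CdOne.exists_pow_inf_torsion_eq_bot (B := R) (N := R) I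
  let W : Submodule R (Fin r → R) := I ^ (k₁ + k₂) • ⊤
  let ε : W →ₗ[R] sec I MF := (tilde.toOpen MF U).hom.comp W.subtype
  have hε : Function.Injective ε := toOpen_injOn I MF fun x hx =>
    hk₁ x (Submodule.smul_mono_left (Ideal.pow_le_pow_right (Nat.le_add_right k₁ k₂)) hx)
  have hmem : ∀ x : ↥(I ^ (m + k₁ + k₂ + 1)), (x : R) • g ∈ LinearMap.range ε := fun x => by
    have hx : (x : R) ∈ I ^ (k₁ + k₂) * I ^ m := by
      rw [← pow_add]
      exact Ideal.pow_le_pow_right (by omega) x.2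
    refine Submodule.mul_induction_on hx (fun a ha b hb => ?_) fun a b ha hb => ?_
    · obtain ⟨v, hv⟩ := hm b hb
      exact ⟨⟨a • v, Submodule.smul_mem_smul ha Submodule.mem_top⟩,
        ((tilde.toOpen MF U).hom.map_smul a v).trans ((congrArg (a • ·) hv).trans (mul_smul a b g).symm)⟩
    · rw [add_smul]; exact add_mem ha hb
  let ψ : ↥(I ^ (m + k₁ + k₂ + 1)) →ₗ[R] (Fin r → R) :=
    W.subtype ∘ₗ (LinearEquiv.ofInjective ε hε).symm.toLinearMap ∘ₗ
      LinearMap.codRestrict (LinearMap.range ε)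
        ((LinearMap.toSpanSingleton R (sec I MF) g).comp (I ^ (m + k₁ + k₂ + 1)).subtype) hmem
  have hψ : ∀ x, tilde.toOpen MF U (ψ x) = (x : R) • g := fun x =>
    congrArg Subtype.val ((LinearEquiv.ofInjective ε hε).apply_symm_apply ⟨_, hmem x⟩)
  refine ⟨m + k₁ + k₂, fun j => (LinearMap.proj j).comp ψ, fun x => ?_⟩
  refine Eq.trans (sub_eq_zero.1 ?_).symm ((hl (ψ x)).trans (Finset.sum_congr rfl fun j _ => mul_comm _ _))
  refine hk₂ _ (sub_mem ?_ ?_) _ (Classical.choose_spec ((toOpen_eq_zero_iff I MA _).1 ?_))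
  · rw [smul_eq_mul, Ideal.mul_top, hl]
    refine Ideal.sum_mem _ fun j _ => Ideal.mul_mem_right _ _ ?_
    have hW : W.map (LinearMap.proj j) ≤ I ^ k₂ := by
      rw [Submodule.map_smul'']
      exact Submodule.smul_le.2 fun a ha b _ =>
        Ideal.mul_mem_right _ _ (Ideal.pow_le_pow_right (Nat.le_add_left k₂ k₁) ha)
    exact hW ⟨ψ x, ((LinearEquiv.ofInjective ε hε).symm _).2, rfl⟩
  · rw [smul_eq_mul, Ideal.mul_top]
    exact Ideal.pow_le_pow_right (by omega) x.2
  · rw [map_sub, sub_eq_zero]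
    refine ((secMap_toOpen I S₂.f (l' (ψ x))).symm.trans (congrArg (secMap I S₂.f)
      (secMap_toOpen I S₁.g (ψ x)).symm)).trans ?_
    rw [hψ]
    refine ((congrArg (secMap I S₂.f) ((secMap I S₁.g).hom.map_smul (x : R) g)).trans
      ((secMap I S₂.f).hom.map_smul (x : R) _)).trans ?_
    rw [show (secMap I S₁.g).hom g = g₁ from hg, show (secMap I S₂.f).hom g₁ = _ from hg₁]
    exact ((tilde.toOpen MA U).hom.map_smul (x : R) (1 : R)).symm.trans
      (congrArg (tilde.toOpen MA U) (mul_one (x : R)))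

end GrothLib.Punctured
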